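import Mathlib.LinearAlgebra.RootSystem.Base
import Mathlib.RingTheory.TensorProduct.Basic
import Mathlib.LinearAlgebra.TensorProduct.Tower

/-!
Fixed points of a Coxeter element.
-/

namespace Groth.Agent.CoxLead

universe u

open scoped TensorProduct

theorem coxeter_fixed {ι M N : Type u} [AddCommGroup M] [AddCommGroup N]
    (P : RootPairing ι ℤ M N) (b : P.Base)
    (hsc : ∀ i ∈ b.support, ∃ ω : M, P.coroot' i ω = 1 ∧ ∀ j ∈ b.support, j ≠ i → P.coroot' j ω = 0)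
    (l : List ι) (hl : l.Nodup) (hlb : ∀ i : ι, i ∈ l ↔ i ∈ b.support)
    (k : Type u) [Field k] (H : k ⊗[ℤ] N)
    (hH : ((l.map (fun i => ((P.coreflection i : N ≃ₗ[ℤ] N) : N →ₗ[ℤ] N))).prod).baseChange k H = H) :
    ∀ i ∈ b.support, LinearMap.baseChange k (P.root' i) H = 0 := by
  classical
  let ε : (k ⊗[ℤ] ℤ) →ₗ[k] k := (TensorProduct.AlgebraTensorModule.rid ℤ k k).toLinearMap
  let ρ : ι → (k ⊗[ℤ] N) →ₗ[k] k := fun i => ε ∘ₗ LinearMap.baseChange k (P.root' i)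
  have hρ0 : ∀ i (X : k ⊗[ℤ] N), ρ i X = 0 → LinearMap.baseChange k (P.root' i) X = 0 := fun i X h =>
    (TensorProduct.AlgebraTensorModule.rid ℤ k k).map_eq_zero_iff.1 h
  let F : List ι → (k ⊗[ℤ] N) →ₗ[k] k ⊗[ℤ] N := fun t =>
    ((t.map (fun i => ((P.coreflection i : N ≃ₗ[ℤ] N) : N →ₗ[ℤ] N))).prod).baseChange k
  have hstep : ∀ (i : ι) (t : List ι) (X : k ⊗[ℤ] N),
      F (i :: t) X = F t X - ρ i (F t X) • ((1 : k) ⊗ₜ[ℤ] P.coroot i) := by
    intro i t X
    simp only [F, List.map_cons, List.prod_cons, Module.End.mul_eq_comp, LinearMap.baseChange_comp, LinearMap.comp_apply]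
    generalize ((t.map (fun i => ((P.coreflection i : N ≃ₗ[ℤ] N) : N →ₗ[ℤ] N))).prod).baseChange k X = Y
    induction Y with
    | zero => simp
    | add a b ha hb => rw [map_add, map_add, add_smul, ha, hb]; abel
    | tmul c y =>
      simp [ρ, ε, RootPairing.coreflection_apply, TensorProduct.tmul_sub, TensorProduct.smul_tmul',
        TensorProduct.tmul_smul]
  have hnil : ∀ X, F [] X = X := fun X => by simp [F, Module.End.one_eq_id]
  have hω : ∀ i ∈ b.support, ∃ φ : (k ⊗[ℤ] N) →ₗ[k] k, φ ((1 : k) ⊗ₜ[ℤ] P.coroot i) = 1 ∧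
      ∀ j ∈ b.support, j ≠ i → φ ((1 : k) ⊗ₜ[ℤ] P.coroot j) = 0 := by
    intro i hi
    obtain ⟨ω, h1, h2⟩ := hsc i hi
    refine ⟨ε ∘ₗ LinearMap.baseChange k (P.toLinearMap ω), ?_, fun j hj hji => ?_⟩
    · have : P.toLinearMap ω (P.coroot i) = 1 := h1
      simp [ε, this]
    · have : P.toLinearMap ω (P.coroot j) = 0 := h2 j hj hji
      simp [ε, this]
  have main : ∀ t : List ι, t.Nodup → (∀ i ∈ t, i ∈ b.support) → ∀ X,
      (F t X = X → ∀ i ∈ t, ρ i X = 0) ∧
      ∀ φ : (k ⊗[ℤ] N) →ₗ[k] k, (∀ j ∈ t, φ ((1 : k) ⊗ₜ[ℤ] P.coroot j) = 0) → φ (F t X) = φ X := by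
    intro t
    induction t with
    | nil => intro _ _ X; exact ⟨fun _ i hi => by simp at hi, fun φ _ => by rw [hnil]⟩
    | cons i t ih =>
      intro hnd hsub X
      obtain ⟨hni, hnd'⟩ := List.nodup_cons.1 hnd
      obtain ⟨ih1, ih2⟩ := ih hnd' (fun j hj => hsub j (List.mem_cons_of_mem _ hj)) X
      refine ⟨fun hfix => ?_, fun φ hφ => ?_⟩
      · obtain ⟨φ, hφ1, hφ2⟩ := hω i (hsub i (List.mem_cons_self ..))
        have hφt := ih2 φ (fun j hj => hφ2 j (hsub j (List.mem_cons_of_mem _ hj)) (fun e => hni (e ▸ hj)))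
        rw [hstep] at hfix
        have h0 := congrArg φ hfix
        rw [map_sub, map_smul, hφ1, hφt, smul_eq_mul, mul_one, sub_eq_self] at h0
        rw [h0, zero_smul, sub_zero] at hfix
        intro j hj
        rcases List.mem_cons.1 hj with rfl | hj
        · rw [hfix] at h0; exact h0
        · exact ih1 hfix j hj
      · rw [hstep, map_sub, map_smul, hφ i (List.mem_cons_self ..), smul_zero, sub_zero,
          ih2 φ (fun j hj => hφ j (List.mem_cons_of_mem _ hj))]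
  intro i hi
  exact hρ0 i H ((main l hl (fun j hj => (hlb j).1 hj) H).1 hH i ((hlb i).2 hi))


end Groth.Agent.CoxLead
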